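import Mathlib
import Groth.Agent.FlattenIdealLib.Artinian
import Groth.Agent.S0304

set_option autoImplicit false
set_option linter.style.haveILetI false

/-!
# Injective modules as filtered colimits of finite modules over artinian algebras
-/

universe u

open CategoryTheory CategoryTheory.Limits

namespace Groth.Agent.InjColimLib

variable {A : Type u} [CommRing A]

/-- Local structure of an indecomposable injective module. -/
theorem local_structure [IsNoetherianRing A] (E : Type u) [AddCommGroup E] [Module A E]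
    (hE : InjHull.IsIndecomposable A E) (hinj : Module.Injective A E) :
    ∃ (p : Ideal A) (_ : p.IsPrime),
      (∀ s ∉ p, Function.Bijective fun x : E => s • x) ∧
      ∀ x : E, ∃ n : ℕ, ∀ r ∈ p ^ n, r • x = 0 := by
  classical
  obtain ⟨meet, p, hp, hpE⟩ := Groth.Agent.S0304.result A E hE hinj
  have hmem : ∀ r, r ∈ p ↔ ∃ x : E, x ≠ 0 ∧ r • x = 0 := fun r => Set.ext_iff.mp hpE r
  refine ⟨p, hp, fun s hs => ?_, fun x => ?_⟩
  · let φ : E →ₗ[A] E := LinearMap.lsmul A E s
    have hφ : Function.Injective φ := (injective_iff_map_eq_zero φ).mpr fun x hx => by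
      by_contra h
      exact hs ((hmem s).mpr ⟨x, h, hx⟩)
    refine ⟨hφ, ?_⟩
    obtain ⟨ψ, hψ⟩ := hinj.out φ hφ LinearMap.id
    have hc : IsCompl (LinearMap.range φ) (LinearMap.ker ψ) := by
      refine IsCompl.of_eq ?_ ?_
      · rw [eq_bot_iff]
        rintro _ ⟨⟨x, rfl⟩, h2⟩
        have : x = 0 := by simpa [LinearMap.id_apply] using (hψ x).symm.trans (LinearMap.mem_ker.mp h2)
        simp [this]
      · rw [eq_top_iff]
        intro x _
        refine Submodule.mem_sup.mpr ⟨φ (ψ x), ⟨_, rfl⟩, x - φ (ψ x), ?_, add_sub_cancel _ _⟩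
        rw [LinearMap.mem_ker, map_sub, hψ, LinearMap.id_apply, sub_self]
    rcases hE.2 _ _ hc with h | h
    · exfalso
      haveI := hE.1
      obtain ⟨x, hx⟩ := exists_ne (0 : E)
      have h1 : φ x ∈ LinearMap.range φ := ⟨x, rfl⟩
      rw [h, Submodule.mem_bot] at h1
      exact hx (hφ (h1.trans (map_zero φ).symm))
    · intro y
      have : y ∈ LinearMap.range φ := by
        have h2 : y ∈ LinearMap.range φ ⊔ LinearMap.ker ψ := hc.sup_eq_top ▸ Submodule.mem_top
        rwa [h, sup_bot_eq] at h2
      exact this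
  · have key : ∀ r ∈ p, ∃ n : ℕ, r ^ n • x = 0 := by
      intro r hr
      obtain ⟨n, hn⟩ := monotone_stabilizes_iff_noetherian.mpr (inferInstance : IsNoetherian A A)
        ⟨fun n => LinearMap.ker ((r ^ n) • LinearMap.toSpanSingleton A E x), fun a b hab c hc => by
          simp only [LinearMap.mem_ker, LinearMap.smul_apply, LinearMap.toSpanSingleton_apply] at hc ⊢
          rw [← Nat.sub_add_cancel hab, pow_add, mul_smul, hc, smul_zero]⟩
      refine ⟨n, ?_⟩
      by_contra hne
      obtain ⟨z, hz, hrz⟩ := (hmem r).mp hr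
      refine meet (Submodule.span A {r ^ n • x}) (LinearMap.ker (LinearMap.lsmul A E r)) ?_ ?_ ?_
      · rwa [Ne, Submodule.span_singleton_eq_bot]
      · intro h
        have : z ∈ LinearMap.ker (LinearMap.lsmul A E r) := hrz
        rw [h, Submodule.mem_bot] at this
        exact hz this
      · rw [eq_bot_iff]
        rintro _ ⟨hy, hry⟩
        obtain ⟨a, rfl⟩ := Submodule.mem_span_singleton.mp hy
        have h1 : r • a • r ^ n • x = 0 := hry
        have h2 : a ∈ LinearMap.ker ((r ^ (n + 1)) • LinearMap.toSpanSingleton A E x) := by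
          rw [LinearMap.mem_ker, LinearMap.smul_apply, LinearMap.toSpanSingleton_apply, ← h1]
          simp only [smul_smul, pow_succ]
          ring_nf
        have h3 := (hn (n + 1) (Nat.le_succ n)).symm.le h2
        simp only [OrderHom.coe_mk, LinearMap.mem_ker, LinearMap.smul_apply,
          LinearMap.toSpanSingleton_apply] at h3
        rw [Submodule.mem_bot, smul_comm, h3]
    let ann : Ideal A := Submodule.comap (LinearMap.toSpanSingleton A E x) ⊥
    have hrad : p ≤ ann.radical := fun r hr => by
      obtain ⟨n, hn⟩ := key r hr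
      exact ⟨n, by simpa [ann] using hn⟩
    obtain ⟨n, hn⟩ := Ideal.exists_pow_le_of_le_radical_of_fg hrad (IsNoetherian.noetherian p)
    exact ⟨n, fun r hr => by simpa [ann] using hn hr⟩

/-- A module `M` is finite over an artinian algebra. -/
def ArtFinite (A : Type u) [CommRing A] (M : Type u) [AddCommGroup M] [Module A M] : Prop :=
  ∃ (B : Type u) (_ : CommRing B) (_ : Algebra A B) (_ : IsArtinianRing B)
    (_ : Module B M) (_ : IsScalarTower A B M), Module.Finite B M

theorem ArtFinite.congr {M N : Type u} [AddCommGroup M] [Module A M] [AddCommGroup N] [Module A N]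
    (h : ArtFinite A M) (e : M ≃ₗ[A] N) : ArtFinite A N := by
  obtain ⟨B, i1, i2, i3, i4, i5, i6⟩ := h
  letI : Module B N := e.symm.toAddEquiv.module B
  let e' : M ≃ₗ[B] N :=
    { e.toAddEquiv with
      map_smul' := fun b m => by
        show e (b • m) = e (b • e.symm (e m))
        rw [LinearEquiv.symm_apply_apply] }
  refine ⟨B, i1, i2, i3, inferInstance, IsScalarTower.of_algebraMap_smul fun a n => ?_,
    Module.Finite.equiv e'⟩
  show e (algebraMap A B a • e.symm n) = a • n
  rw [algebraMap_smul, map_smul, LinearEquiv.apply_symm_apply]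

theorem finite_pi_of_pi {ι : Type u} [Fintype ι] {B : ι → Type u} [∀ i, CommRing (B i)]
    {M : ι → Type u} [∀ i, AddCommGroup (M i)] [∀ i, Module (B i) (M i)] [∀ i, Module.Finite (B i) (M i)] :
    Module.Finite (∀ i, B i) (∀ i, M i) := by
  classical
  choose G hG using fun i => (inferInstance : Module.Finite (B i) (M i)).fg_top
  refine ⟨⟨Finset.univ.biUnion fun i => (G i).image fun x => Pi.single i x, eq_top_iff.mpr fun y _ => ?_⟩⟩
  rw [show y = ∑ i, Pi.single i (y i) from (Finset.univ_sum_single y).symm]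
  refine Submodule.sum_mem _ fun i _ => ?_
  suffices ∀ x ∈ Submodule.span (B i) (G i : Set (M i)), Pi.single i x ∈
      Submodule.span (∀ i, B i) (↑(Finset.univ.biUnion fun i => (G i).image fun x => Pi.single i x) :
        Set (∀ i, M i)) from this (y i) (by rw [hG i]; trivial)
  intro x hx
  induction hx using Submodule.span_induction with
  | mem x hx =>
    refine Submodule.subset_span ?_
    rw [Finset.mem_coe, Finset.mem_biUnion]
    exact ⟨i, Finset.mem_univ _, Finset.mem_image_of_mem _ hx⟩
  | zero => rw [Pi.single_zero]; exact zero_mem _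
  | add a b _ _ ha hb => rw [Pi.single_add]; exact add_mem ha hb
  | smul c a _ ha =>
    have : Pi.single i (c • a) = (Pi.single i c : ∀ i, B i) • (Pi.single i a : ∀ i, M i) := by
      funext j
      by_cases h : j = i
      · subst h; rw [Pi.smul_apply', Pi.single_eq_same, Pi.single_eq_same, Pi.single_eq_same]
      · rw [Pi.smul_apply', Pi.single_eq_of_ne h, Pi.single_eq_of_ne h, Pi.single_eq_of_ne h, smul_zero]
    rw [this]
    exact Submodule.smul_mem _ _ ha

theorem ArtFinite.pi {ι : Type u} [Fintype ι] {M : ι → Type u} [∀ i, AddCommGroup (M i)]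
    [∀ i, Module A (M i)] (h : ∀ i, ArtFinite A (M i)) : ArtFinite A (∀ i, M i) := by
  choose B i1 i2 i3 i4 i5 i6 using h
  refine ⟨∀ i, B i, inferInstance, inferInstance, inferInstance, inferInstance,
    IsScalarTower.of_algebraMap_smul fun a y => funext fun i => ?_, finite_pi_of_pi⟩
  rw [Pi.smul_apply', Pi.algebraMap_apply, algebraMap_smul, Pi.smul_apply]

theorem artFinite_of_torsion {R : Type u} [CommRing R] [IsLocalRing R] [IsNoetherianRing R] [Algebra A R]
    {Y : Type u} [AddCommGroup Y] [Module A Y] [Module R Y] [IsScalarTower A R Y] [Module.Finite R Y] (n : ℕ)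
    (hYI : Module.IsTorsionBySet R Y ((IsLocalRing.maximalIdeal R ^ n : Ideal R) : Set R)) :
    ArtFinite A Y := by
  let I := IsLocalRing.maximalIdeal R ^ n
  letI : Module (R ⧸ I) Y := Module.IsTorsionBySet.module hYI
  haveI : IsScalarTower R (R ⧸ I) Y := Module.IsTorsionBySet.isScalarTower hYI
  haveI : IsScalarTower A (R ⧸ I) Y := IsScalarTower.of_algebraMap_smul fun a y => by
    rw [IsScalarTower.algebraMap_apply A R (R ⧸ I), algebraMap_smul, algebraMap_smul]
  haveI : Module.Finite (R ⧸ I) Y := Module.Finite.of_restrictScalars_finite R (R ⧸ I) Y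
  exact ⟨R ⧸ I, inferInstance, inferInstance, FlattenIdealLib.isArtinianRing_quotient_pow n,
    inferInstance, inferInstance, inferInstance⟩

/-- The saturation of the span of a finite set is finite over an artinian algebra. -/
theorem artFinite_saturation [IsNoetherianRing A] {J : Type u} [AddCommGroup J] [Module A J]
    (E : Submodule A J) (p : Ideal A) [p.IsPrime] (hbij : ∀ s ∉ p, Function.Bijective fun x : E => s • x)
    (htors : ∀ x : E, ∃ n : ℕ, ∀ r ∈ p ^ n, r • x = 0) (G : Finset J) (hG : ∀ g ∈ G, g ∈ E)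
    (X : Submodule A J)
    (hX : ∀ y, y ∈ X ↔ y ∈ E ∧ ∃ s ∉ p, s • y ∈ Submodule.span A (G : Set J)) :
    ArtFinite A X := by
  classical
  let N : Submodule A E := Submodule.span A ((G.attach.image fun g => (⟨g.1, hG g.1 g.2⟩ : E)) : Set E)
  haveI : Module.Finite A N := Module.Finite.iff_fg.mpr (Submodule.fg_span (Finset.finite_toSet _))
  obtain ⟨n, hn⟩ : ∃ n : ℕ, ∀ r ∈ p ^ n, ∀ g ∈ G.attach, r • (⟨g.1, hG g.1 g.2⟩ : E) = 0 := by
    choose n hn using fun g : G => htors ⟨g.1, hG g.1 g.2⟩
    exact ⟨G.attach.sup n, fun r hr g hg => hn g r (Ideal.pow_le_pow_right (Finset.le_sup hg) hr)⟩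
  have hkill : ∀ r ∈ p ^ n, ∀ z ∈ N, r • z = 0 := by
    intro r hr z hz
    induction hz using Submodule.span_induction with
    | mem z hz =>
      obtain ⟨g, hg, rfl⟩ := Finset.mem_image.mp hz
      exact hn r hr g hg
    | zero => exact smul_zero r
    | add a b _ _ ha hb => rw [smul_add, ha, hb, add_zero]
    | smul c a _ ha => rw [smul_comm, ha, smul_zero]
  let S := p.primeCompl
  let Ap := Localization.AtPrime p
  let Y := LocalizedModule S N
  haveI : IsNoetherianRing Ap := IsLocalization.isNoetherianRing S Ap inferInstance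
  haveI : Module.Finite Ap Y := Module.Finite.of_isLocalizedModule S (LocalizedModule.mkLinearMap S N)
  let I := IsLocalRing.maximalIdeal Ap ^ n
  have hYI : Module.IsTorsionBySet Ap Y (I : Set Ap) := by
    intro y a
    obtain ⟨a, ha⟩ := a
    show a • y = 0
    have hI : I = (p ^ n).map (algebraMap A Ap) := by
      rw [Ideal.map_pow, Localization.AtPrime.map_eq_maximalIdeal]
    rw [SetLike.mem_coe, hI] at ha
    induction ha using Submodule.span_induction with
    | mem a ha =>
      obtain ⟨r, hr, rfl⟩ := ha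
      rw [algebraMap_smul]
      induction y using LocalizedModule.induction_on with
      | h m s =>
        rw [LocalizedModule.smul'_mk, show r • m = 0 from Subtype.ext (hkill r hr m m.2), LocalizedModule.zero_mk]
    | zero => exact zero_smul Ap y
    | add a b _ _ ha hb => rw [add_smul, ha, hb, add_zero]
    | smul c a _ ha => rw [smul_assoc, ha, smul_zero]
  have hY : ArtFinite A Y := artFinite_of_torsion (R := Ap) n hYI
  have hunit : ∀ s : S, IsUnit (algebraMap A (Module.End A E) s) := fun s =>
    (Module.End.isUnit_iff _).mpr (hbij s.1 s.2)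
  let ψ : Y →ₗ[A] E := LocalizedModule.lift S N.subtype hunit
  have hψspec : ∀ (m : N) (s : S), (s : A) • ψ (LocalizedModule.mk m s) = (m : E) := by
    intro m s
    rw [← map_smul, LocalizedModule.smul'_mk]
    have hc : LocalizedModule.mk ((s : A) • m) s = LocalizedModule.mkLinearMap S N m := by
      rw [← Submonoid.smul_def, LocalizedModule.mk_cancel, LocalizedModule.mkLinearMap_apply]
    rw [hc]
    exact LinearMap.congr_fun (LocalizedModule.lift_comp S N.subtype hunit) m
  have hψ : Function.Injective ψ := by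
    rw [injective_iff_map_eq_zero]
    intro y hy
    induction y using LocalizedModule.induction_on with
    | h m s =>
      have h := hψspec m s
      rw [hy, smul_zero] at h
      rw [show m = 0 from Subtype.ext h.symm, LocalizedModule.zero_mk]
  let Φ : Y →ₗ[A] J := E.subtype.comp ψ
  have hNG : ∀ z : E, z ∈ N ↔ (z : J) ∈ Submodule.span A (G : Set J) := by
    intro z
    have hmap : N.map E.subtype = Submodule.span A (G : Set J) := by
      rw [Submodule.map_span]
      congr 1
      ext j
      simp only [Set.mem_image, Finset.mem_coe, Finset.mem_image, Finset.mem_attach, true_and,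
        Submodule.coe_subtype, exists_exists_eq_and]
      exact ⟨fun ⟨g, hg⟩ => hg ▸ g.2, fun hj => ⟨⟨j, hj⟩, rfl⟩⟩
    rw [← hmap]
    exact ⟨fun h => ⟨z, h, rfl⟩, fun ⟨w, hw, hwz⟩ => Subtype.val_injective hwz ▸ hw⟩
  have hrange : LinearMap.range Φ = X := by
    ext y
    rw [hX]
    constructor
    · rintro ⟨z, rfl⟩
      refine ⟨(ψ z).2, ?_⟩
      induction z using LocalizedModule.induction_on with
      | h m s =>
        refine ⟨s.1, s.2, ?_⟩
        show ((s : A) • ψ (LocalizedModule.mk m s) : E).1 ∈ _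
        rw [hψspec]
        exact (hNG _).mp m.2
    · rintro ⟨hy, s, hs, hsy⟩
      refine ⟨LocalizedModule.mk ⟨s • ⟨y, hy⟩, (hNG _).mpr hsy⟩ ⟨s, hs⟩, ?_⟩
      exact congrArg Subtype.val (a₁ := ψ (LocalizedModule.mk ⟨s • ⟨y, hy⟩, (hNG _).mpr hsy⟩ ⟨s, hs⟩))
        (a₂ := (⟨y, hy⟩ : E)) ((hbij s hs).1 (hψspec ⟨s • ⟨y, hy⟩, (hNG _).mpr hsy⟩ ⟨s, hs⟩))
  have hΦ : Function.Injective Φ := E.injective_subtype.comp hψ
  exact hY.congr ((LinearEquiv.ofInjective Φ hΦ).trans (LinearEquiv.ofEq _ _ hrange))

/-- The union of a directed family of submodules is their colimit. -/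
theorem exists_isColimit {J : Type u} [AddCommGroup J] [Module A J] {ι : Type u} [Preorder ι]
    [IsDirected ι (· ≤ ·)] [Nonempty ι] (X : ι → Submodule A J) (hX : Monotone X)
    (htop : ∀ x, ∃ i, x ∈ X i) :
    ∃ (D : ι ⥤ ModuleCat.{u} A) (c : Cocone D) (_ : IsColimit c),
      Nonempty (c.pt ≅ ModuleCat.of A J) ∧ ∀ i, D.obj i = ModuleCat.of A (X i) := by
  let D : ι ⥤ ModuleCat.{u} A :=
    { obj := fun i => ModuleCat.of A (X i)
      map := fun {i j} f => ModuleCat.ofHom (Submodule.inclusion (hX (leOfHom f))) }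
  let c : Cocone D :=
    { pt := ModuleCat.of A J
      ι := { app := fun i => ModuleCat.ofHom (X i).subtype } }
  choose F hF using htop
  have compat : ∀ (s : Cocone D) (i j : ι) (x : X i) (y : X j), (x : J) = y →
      (s.ι.app i).hom x = (s.ι.app j).hom y := by
    intro s i j x y hxy
    obtain ⟨l, hil, hjl⟩ := directed_of (α := ι) (· ≤ ·) i j
    have h1 := LinearMap.congr_fun (congrArg ModuleCat.Hom.hom (s.w (homOfLE hil))) x
    have h2 := LinearMap.congr_fun (congrArg ModuleCat.Hom.hom (s.w (homOfLE hjl))) y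
    refine h1.symm.trans ((congrArg (s.ι.app l).hom ?_).trans h2)
    exact Subtype.ext hxy
  let desc : ∀ s : Cocone D, J →ₗ[A] s.pt := fun s =>
    { toFun := fun x => (s.ι.app (F x)).hom ⟨x, hF x⟩
      map_add' := fun x y => by
        obtain ⟨l, hxl, hyl⟩ := directed_of (α := ι) (· ≤ ·) (F x) (F y)
        rw [compat s (F (x + y)) l ⟨x + y, hF _⟩ (⟨x, hX hxl (hF x)⟩ + ⟨y, hX hyl (hF y)⟩) rfl,
          compat s (F x) l ⟨x, hF x⟩ ⟨x, hX hxl (hF x)⟩ rfl,
          compat s (F y) l ⟨y, hF y⟩ ⟨y, hX hyl (hF y)⟩ rfl]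
        exact map_add _ _ _
      map_smul' := fun a x => by
        rw [RingHom.id_apply, compat s (F (a • x)) (F x) ⟨a • x, hF _⟩ (a • ⟨x, hF x⟩) rfl]
        exact map_smul _ _ _ }
  refine ⟨D, c,
    { desc := fun s => ModuleCat.ofHom (desc s)
      fac := fun s i => ModuleCat.hom_ext (LinearMap.ext fun x => compat s (F x.1) i ⟨x.1, hF _⟩ x rfl)
      uniq := fun s g hg => ModuleCat.hom_ext (LinearMap.ext fun x => ?_) },
    ⟨Iso.refl _⟩, fun i => rfl⟩
  exact LinearMap.congr_fun (congrArg ModuleCat.Hom.hom (hg (F x))) ⟨x, hF x⟩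

end Groth.Agent.InjColimLib
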